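import Groth.Agent.EtDiv.Stage
import Groth.Agent.EtFound.AbRecollement
import Groth.Agent.EtTrace.H1Point

/-! cohomology of sheaves supported on closed points is torsion in positive degrees -/

set_option autoImplicit false
universe u

open CategoryTheory CategoryTheory.Limits AlgebraicGeometry Opposite CategoryTheory.Abelian

namespace Groth.Agent.EtDiv

open Groth.Agent.EtFound Groth.Agent.EtTrace

set_option backward.isDefEq.respectTransparency false
set_option backward.isDefEq.respectTransparency.types false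
set_option linter.style.haveILetI false

variable {X : Scheme.{u}} [CompactSpace X] [QuasiSeparatedSpace X]

/-- direct images from points have torsion cohomology -/
theorem exists_nsmul_H_skyPush (x : X) (F : EtCoh.Ab (Spec (X.residueField x))) {q : ℕ} (hq : 1 ≤ q)
    (a : EtCoh.H X ((EtCoh.push (X.fromSpecResidueField x)).obj F) q) : ∃ N : ℕ, 0 < N ∧ N • a = 0 := by
  haveI := quasiCompact_fromSpecResidueField x
  haveI : QuasiSeparated (X.fromSpecResidueField x) := QuasiSeparated.of_comp _ (Limits.terminal.from X)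
  obtain ⟨p, rfl⟩ : ∃ p, q = p + 1 := ⟨q - 1, by omega⟩
  exact exists_nsmul_H_push (X.fromSpecResidueField x)
    (fun F n W hW x => by
      haveI : CompactSpace W.left := hW.1
      exact exists_nsmul_ext F n x)
    (fun F n x => exists_nsmul_H_field F (Nat.succ_pos n) x) p F a

omit [CompactSpace X] [QuasiSeparatedSpace X] in
/-- torsion in the middle of a short exact sequence -/
theorem exists_nsmul_of_shortExact {S : ShortComplex (EtCoh.Ab X)} (hS : S.ShortExact) {q : ℕ}
    (h₁ : ∀ a : EtCoh.H X S.X₁ q, ∃ N : ℕ, 0 < N ∧ N • a = 0)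
    (h₃ : ∀ a : EtCoh.H X S.X₃ q, ∃ N : ℕ, 0 < N ∧ N • a = 0) (a : EtCoh.H X S.X₂ q) :
    ∃ N : ℕ, 0 < N ∧ N • a = 0 := by
  obtain ⟨N, hN, h⟩ := h₃ (a.comp (Ext.mk₀ S.g) (add_zero q))
  obtain ⟨b, hb⟩ := Ext.covariant_sequence_exact₂ _ hS (N • a) ((nsmul_comp_mk₀ a S.g N).trans h)
  obtain ⟨M, hM, hb0⟩ := h₁ b
  refine ⟨M * N, Nat.mul_pos hM hN, ?_⟩
  rw [mul_nsmul', ← hb, ← nsmul_comp_mk₀, hb0, Ext.zero_comp]

/-- sheaves supported in finitely many closed points -/
theorem exists_nsmul_H_of_finite (Z : Finset X) (hZ : ∀ x ∈ Z, IsClosed ({x} : Set X)) :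
    ∀ (G : EtCoh.Ab X), (∀ (Ω : Type u) [Field Ω] [IsSepClosed Ω] (ξ : Spec (CommRingCat.of Ω) ⟶ X),
      ξ.base (default : Spec (CommRingCat.of Ω)) ∉ Z → IsZero ((EtCoh.stalk ξ).obj G)) →
    ∀ {q : ℕ}, 1 ≤ q → ∀ a : EtCoh.H X G q, ∃ N : ℕ, 0 < N ∧ N • a = 0 := by
  classical
  induction Z using Finset.induction with
  | empty =>
    intro G hG q _ a
    have h0 : IsZero G := (isZero_iff_stalks G).2 fun Ω _ _ ξ => hG Ω ξ (Finset.notMem_empty _)
    refine ⟨1, one_pos, ?_⟩
    rw [one_nsmul, ← Ext.comp_mk₀_id a, h0.eq_of_src (𝟙 G) 0, Ext.mk₀_zero, Ext.comp_zero]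
  | @insert x Z hx ih =>
    intro G hG q hq a
    let i := X.fromSpecResidueField x
    haveI : IsClosedImmersion i := IsClosedImmersion.of_isPreimmersion _ (by
      rw [Scheme.range_fromSpecResidueField]; exact hZ x (Finset.mem_insert_self _ _))
    let U : X.Opens := ⟨{x}ᶜ, (hZ x (Finset.mem_insert_self _ _)).isOpen_compl⟩
    haveI := jCont U.ι
    have hU : Set.range U.ι.base = (Set.range i.base)ᶜ := by
      rw [Scheme.Opens.range_ι, Scheme.range_fromSpecResidueField]; rfl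
    obtain ⟨w, hS⟩ := recollement_shortExact i U.ι hU G
    haveI := hS.mono_f
    refine exists_nsmul_of_shortExact hS (fun b => ?_) (fun b => exists_nsmul_H_skyPush x _ hq b) a
    refine ih (fun y hy => hZ y (Finset.mem_insert_of_mem hy)) _ (fun Ω _ _ ξ hξ => ?_) hq b
    by_cases hξx : ξ.base (default : Spec (CommRingCat.of Ω)) = x
    · exact isZero_stalk_extZero U.ι ξ (by rw [Scheme.Opens.range_ι]; exact fun h => h hξx) _
    · exact IsZero.of_mono ((EtCoh.stalk ξ).map ((EtShriek.extZeroAdj U.ι).counit.app G)) (hG Ω ξ (by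
        simp only [Finset.mem_insert, not_or]
        exact ⟨hξx, hξ⟩))

/-- positive cohomology of a sheaf with no stalks at non-closed points is torsion -/
theorem exists_nsmul_H_of_closed_support [IsLocallyNoetherian X] {F : EtCoh.Ab X}
    (hF : ∀ (Ω : Type u) [Field Ω] [IsSepClosed Ω] (ξ : Spec (CommRingCat.of Ω) ⟶ X),
      ¬ IsClosed ({ξ.base (default : Spec (CommRingCat.of Ω))} : Set X) → IsZero ((EtCoh.stalk ξ).obj F))
    {q : ℕ} (hq : 1 ≤ q) (a : EtCoh.H X F q) : ∃ N : ℕ, 0 < N ∧ N • a = 0 := by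
  classical
  haveI := isIso_aug_top (X := X)
  have hW : IsQcqsObj (EtCoh.top X) :=
    ⟨inferInstanceAs (CompactSpace X), inferInstanceAs (QuasiSeparatedSpace X)⟩
  obtain ⟨hc⟩ := nonempty_isColimit_partCocone hF
  let e : colimit (partFunctor F) ≅ F := (colimit.isColimit (partFunctor F)).coconePointUniqueUpToIso hc
  obtain ⟨j, y, hy⟩ := (comm_free hW q (partFunctor F)).surj
    (((Ext.mk₀ (aug (EtCoh.top X))).comp a (zero_add q)).comp (Ext.mk₀ e.inv) (add_zero q))
  let f : (partFunctor F).obj j ⟶ F := colimit.ι (partFunctor F) j ≫ e.hom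
  let b : EtCoh.H X ((partFunctor F).obj j) q := (Ext.mk₀ (inv (aug (EtCoh.top X)))).comp y (zero_add q)
  have hab : b.comp (Ext.mk₀ f) (add_zero q) = a := by
    show ((Ext.mk₀ _).comp y _).comp (Ext.mk₀ (_ ≫ _)) _ = a
    rw [← Ext.mk₀_comp_mk₀, ← Ext.comp_assoc_of_third_deg_zero, Ext.comp_assoc_of_third_deg_zero _ y, hy]
    simp only [Ext.comp_assoc_of_third_deg_zero, Ext.mk₀_comp_mk₀, Iso.inv_hom_id, Ext.comp_mk₀_id]
    rw [Ext.mk₀_comp_mk₀_assoc, IsIso.inv_hom_id, Ext.mk₀_id_comp]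
  obtain ⟨N, hN, hb⟩ := exists_nsmul_H_of_finite (j.image fun p => p.down.1)
    (fun x hx => by obtain ⟨p, -, rfl⟩ := Finset.mem_image.1 hx; exact p.down.2) (part F j)
    (fun Ω _ _ ξ h => isZero_stalk_part F j ξ (by simpa [pts] using h)) hq b
  exact ⟨N, hN, by rw [← hab, ← nsmul_comp_mk₀, hb, Ext.zero_comp]⟩

end Groth.Agent.EtDiv
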