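import Groth.Agent.EtDiv.GenSeq
import Mathlib.Topology.KrullDimension

/-! torsion cohomology of units via the generic points -/

set_option autoImplicit false
universe u

open CategoryTheory CategoryTheory.Limits AlgebraicGeometry Opposite CategoryTheory.Abelian TopologicalSpace

namespace Groth.Agent.EtDiv

open Groth.Agent.EtFound Groth.Agent.EtTrace Groth.Agent.MorLib.Birat

set_option backward.isDefEq.respectTransparency false
set_option backward.isDefEq.respectTransparency.types false
set_option linter.style.haveILetI false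

variable {X : Scheme.{u}} [AlgebraicGeometry.IsNoetherian X]

theorem exists_nsmul_H_genGm {q : ℕ} (hq : 1 ≤ q) (a : EtCoh.H X (genGm X) q) : ∃ N : ℕ, 0 < N ∧ N • a = 0 := by
  classical
  let f := fun η : Gen X => (EtCoh.push (X.fromSpecResidueField η.1)).obj (EtCoh.Gm (Spec (X.residueField η.1)))
  choose N hN h using fun η : Gen X => exists_nsmul_H_skyPush η.1 _ hq
    (a.comp (Ext.mk₀ (biproduct.π f η)) (add_zero q))
  refine ⟨∏ η, N η, Finset.prod_pos fun η _ => hN η, ?_⟩
  rw [← Ext.comp_mk₀_id ((∏ η, N η) • a), show 𝟙 (genGm X) = ∑ η, biproduct.π f η ≫ biproduct.ι f η from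
    biproduct.hom_ext _ _ fun j => by
      rw [Category.id_comp, Preadditive.sum_comp, Finset.sum_eq_single j]
      · exact ((Category.assoc _ _ _).trans ((congrArg _ (biproduct.ι_π_self f j)).trans (Category.comp_id _))).symm
      · exact fun x _ hx => (Category.assoc _ _ _).trans ((congrArg _ (biproduct.ι_π_ne f hx)).trans comp_zero)
      · exact fun h => absurd (Finset.mem_univ j) h,
    Ext.mk₀_sum, Ext.comp_sum]
  refine Finset.sum_eq_zero fun η _ => ?_
  rw [← Ext.mk₀_comp_mk₀, ← Ext.comp_assoc_of_third_deg_zero, nsmul_comp_mk₀]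
  obtain ⟨c, hc⟩ : N η ∣ ∏ η, N η := Finset.dvd_prod_of_mem N (Finset.mem_univ η)
  rw [hc, mul_comm, mul_nsmul', h η, smul_zero, Ext.zero_comp]

variable [IsReduced X]

theorem isZero_stalk_cokernel_toGenGm {Ω : Type u} [Field Ω] [IsSepClosed Ω] (ξ : Spec (CommRingCat.of Ω) ⟶ X)
    (hξ : ξ.base (default : Spec (CommRingCat.of Ω)) ∈ genericPoints X) :
    IsZero ((EtCoh.stalk ξ).obj (cokernel (toGenGm X))) := by
  haveI : Epi ((EtCoh.stalk ξ).map (toGenGm X)) :=
    (AddCommGrpCat.epi_iff_surjective _).2 (stalk_surjective_toGenGm ξ hξ)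
  haveI : Epi ((EtCoh.stalk ξ).map (cokernel.π (toGenGm X))) := inferInstance
  refine IsZero.of_epi_eq_zero ((EtCoh.stalk ξ).map (cokernel.π (toGenGm X))) ?_
  rw [← cancel_epi ((EtCoh.stalk ξ).map (toGenGm X)), ← Functor.map_comp, cokernel.condition, Functor.map_zero,
    comp_zero]

omit [AlgebraicGeometry.IsNoetherian X] [IsReduced X] in
theorem isClosed_of_notMem_genericPoints (hdim : topologicalKrullDim X ≤ 1) {x : X} (hx : x ∉ genericPoints X) :
    IsClosed ({x} : Set X) := by
  obtain ⟨y, hy, hyx⟩ := exists_generic (X := X) x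
  have hne : x ≠ y := fun h => hx (h ▸ hy)
  rw [← closure_eq_iff_isClosed]
  refine subset_antisymm (fun z hz => ?_) subset_closure
  by_contra hzx
  have key : ∀ {p q : X}, q ⤳ p → p ≠ q →
      (⟨closure {p}, isIrreducible_singleton.closure, isClosed_closure⟩ : IrreducibleCloseds X) <
        ⟨closure {q}, isIrreducible_singleton.closure, isClosed_closure⟩ := by
    intro p q h hne
    rw [← SetLike.coe_ssubset_coe]
    refine ⟨isClosed_closure.closure_subset_iff.2 (by simpa using h.mem_closure), fun hle => hne ?_⟩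
    exact ((specializes_iff_mem_closure.2 (hle (subset_closure rfl))).antisymm h).eq
  let s : LTSeries (IrreducibleCloseds X) :=
    RelSeries.cons ((RelSeries.singleton _ _).cons _ (key hyx hne))
      ⟨closure {z}, isIrreducible_singleton.closure, isClosed_closure⟩
      (by simp only [RelSeries.head_cons]; exact key (specializes_iff_mem_closure.2 hz) hzx)
  have h2 : (2 : WithBot ℕ∞) ≤ topologicalKrullDim X := by
    refine le_trans (le_of_eq ?_) (Order.LTSeries.length_le_krullDim s)
    simp only [s, RelSeries.cons_length, RelSeries.singleton_length]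
    rfl
  exact absurd (h2.trans hdim) (by decide)

/-- torsion of `H^q(X, Gm)` from torsion of the cokernel -/
theorem exists_nsmul_H_Gm {q : ℕ}
    (hC : ∀ b : EtCoh.H X (cokernel (toGenGm X)) (q + 1), ∃ N : ℕ, 0 < N ∧ N • b = 0)
    (a : EtCoh.H X (EtCoh.Gm X) (q + 2)) : ∃ N : ℕ, 0 < N ∧ N • a = 0 := by
  haveI := mono_toGenGm (X := X)
  let S := ShortComplex.mk (toGenGm X) (cokernel.π _) (cokernel.condition (toGenGm X))
  have hS : S.ShortExact := { exact := ShortComplex.exact_of_g_is_cokernel _ (cokernelIsCokernel _) }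
  obtain ⟨N, hN, h⟩ := exists_nsmul_H_genGm (X := X) (by omega : 1 ≤ q + 2)
    (a.comp (Ext.mk₀ S.f) (add_zero (q + 2)))
  obtain ⟨b, hb⟩ := Ext.covariant_sequence_exact₁ _ hS (N • a) ((nsmul_comp_mk₀ a S.f N).trans h) (rfl : q + 1 + 1 = q + 2)
  obtain ⟨M, hM, hb0⟩ := hC b
  refine ⟨M * N, Nat.mul_pos hM hN, ?_⟩
  rw [mul_nsmul', ← hb]
  refine (map_nsmul (hS.extClass.postcomp (EtCoh.const X ℤ) (rfl : q + 1 + 1 = q + 2)) M b).symm.trans ?_
  rw [hb0, map_zero]

theorem exists_nsmul_H_Gm_of_dim_le_one (hdim : topologicalKrullDim X ≤ 1) {q : ℕ} (hq : 2 ≤ q)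
    (a : EtCoh.H X (EtCoh.Gm X) q) : ∃ N : ℕ, 0 < N ∧ N • a = 0 := by
  obtain ⟨j, rfl⟩ : ∃ j, q = j + 2 := ⟨q - 2, by omega⟩
  refine exists_nsmul_H_Gm (fun b => exists_nsmul_H_of_closed_support (fun Ω _ _ ξ hξ => ?_) (Nat.succ_pos j) b) a
  exact isZero_stalk_cokernel_toGenGm ξ (by
    by_contra h
    exact hξ (isClosed_of_notMem_genericPoints hdim h))

end Groth.Agent.EtDiv
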