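import Groth.Agent.EtDiv.GenStalk
import Mathlib.RingTheory.Flat.Basic

/-! injectivity of `H²(X, Gm)` into the generic local schemes -/

set_option autoImplicit false
universe u

open CategoryTheory CategoryTheory.Limits AlgebraicGeometry Opposite CategoryTheory.Abelian

namespace Groth.Agent.EtDiv

open Groth.Agent.EtFound Groth.Agent.EtTrace Groth.Agent.MorLib.Birat Groth.Agent.EtLC12

set_option backward.isDefEq.respectTransparency false
set_option backward.isDefEq.respectTransparency.types false
set_option linter.style.haveILetI false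

/-- on étale schemes over one-point noetherian schemes `Gm` has no `H¹` -/
theorem subsingleton_ext_Gm_point_base {S : Scheme.{u}} [Subsingleton S] [IsLocallyNoetherian S] (W : S.Etale)
    [CompactSpace W.left] : Subsingleton (Ext.{u + 1} (freeOn W) (EtCoh.Gm S) 1) := by
  classical
  haveI : IsLocallyNoetherian W.left := by
    let g : W.left ⟶ S := W.hom
    haveI : AlgebraicGeometry.Etale g := W.prop
    exact LocallyOfFiniteType.isLocallyNoetherian g
  haveI : AlgebraicGeometry.IsNoetherian W.left := ⟨⟩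
  have hcl : ∀ w : W.left, IsClosed ({w} : Set W.left) := fun w => by
    refine closure_subset_iff_isClosed.1 fun v hv => ?_
    exact Set.mem_singleton_iff.2 (eq_of_specializes W (specializes_iff_mem_closure.2 hv)
      (@Subsingleton.elim S ‹_› _ _)).symm
  haveI : Finite W.left := Set.finite_univ_iff.1 (finite_of_isClosed_singletons isClosed_univ fun p _ => hcl p)
  haveI : T1Space W.left := ⟨hcl⟩
  let m := Nat.card W.left
  let e : Fin m ≃ W.left := (Finite.equivFin W.left).symm
  let O : Fin m → W.left.Opens := fun j => ⟨{e j}, isOpen_discrete _⟩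
  refine subsingleton_of_forall_eq 0 fun x => ?_
  haveI : ∀ j, Mono (restrictEtaleHom W (O j)) := fun j => by
    refine ⟨fun f g h => MorphismProperty.Over.Hom.ext ?_⟩
    rw [← cancel_mono (O j).ι]
    exact congrArg (fun m => m.left) h
  refine eq_zero_of_pieces (fun j => restrictEtale W (O j)) (fun j => restrictEtaleHom W (O j)) (fun w => ?_)
    (fun j l hjl a b hab => hjl ?_) _ fun j => ?_
  · exact ⟨e.symm w, (⟨w, (e.apply_symm_apply w).symm⟩ : (O (e.symm w)).toScheme), rfl⟩
  · exact e.injective ((Set.mem_singleton_iff.1 (Subtype.prop (p := fun x => x ∈ O j) a)).symm.trans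
      (hab.trans (Set.mem_singleton_iff.1 (Subtype.prop (p := fun x => x ∈ O l) b))))
  · haveI : Subsingleton (restrictEtale W (O j)).left := inferInstanceAs (Subsingleton ({e j} : Set W.left))
    haveI : Nonempty (restrictEtale W (O j)).left := ⟨(⟨e j, rfl⟩ : (O j).toScheme)⟩
    haveI := subsingleton_H1_Gm_point (restrictEtale W (O j)).left
    haveI := subsingleton_ext_Gm (restrictEtale W (O j))
    exact Subsingleton.elim _ _

variable {X : Scheme.{u}} [AlgebraicGeometry.IsNoetherian X]

theorem isZero_Rpush_one_Gm_stalk {η : X} (hη : η ∈ genericPoints X) :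
    IsZero ((EtCoh.Rpush (X.fromSpecStalk η) 1).obj (EtCoh.Gm (Spec (X.presheaf.stalk η)))) := by
  haveI : QuasiCompact (X.fromSpecStalk η) := by
    haveI : QuasiCompact (X.fromSpecStalk η ≫ terminal.from X) := inferInstance
    exact QuasiCompact.of_comp (X.fromSpecStalk η) (terminal.from X)
  haveI : QuasiSeparated (X.fromSpecStalk η) := QuasiSeparated.of_comp _ (terminal.from X)
  haveI : Subsingleton (Spec (X.presheaf.stalk η)) := ⟨fun a b => (X.fromSpecStalk η).isEmbedding.injective
    ((fromSpecStalk_apply_eq hη a).trans (fromSpecStalk_apply_eq hη b).symm)⟩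
  haveI : IsNoetherianRing (X.presheaf.stalk η) := inferInstance
  haveI : IsLocallyNoetherian (Spec (X.presheaf.stalk η)) := inferInstance
  refine isZero_Rpush_one _ _ fun W hW => ?_
  haveI : CompactSpace W.left := hW.1
  exact subsingleton_ext_Gm_point_base W

theorem subsingleton_H1_skyPush_sepClosed (x : X) [IsSepClosed (X.residueField x)]
    (F : EtCoh.Ab (Spec (X.residueField x))) :
    Subsingleton (EtCoh.H X ((EtCoh.push (X.fromSpecResidueField x)).obj F) 1) := by
  haveI := pull_preservesFiniteLimits (X.fromSpecResidueField x)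
  have h0 : Subsingleton (EtCoh.H (Spec (CommRingCat.of (X.residueField x))) F 1) :=
    subsingleton_of_forall_eq 0 fun a => by
      obtain ⟨L, _, _, _, _, hL⟩ := exists_killing_field (K := X.residueField x) F 0 a
      have h1 : Module.finrank (X.residueField x) L = 1 :=
        (LinearEquiv.ofBijective (Algebra.linearMap (X.residueField x) L)
          ⟨(algebraMap (X.residueField x) L).injective, IsSepClosed.algebraMap_surjective _ L⟩).finrank_eq.symm.trans
          (Module.finrank_self _)
      have h := nsmul_eq_zero a hL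
      rwa [h1, one_nsmul] at h
  exact ⟨fun a b => hofPush_one_injective (X.fromSpecResidueField x) F
    (@Subsingleton.elim _ h0 _ _)⟩

omit [AlgebraicGeometry.IsNoetherian X] in
theorem subsingleton_H1_of_finite_sepClosed [AlgebraicGeometry.IsNoetherian X] (Z : Finset X)
    (hZ : ∀ x ∈ Z, IsClosed ({x} : Set X)) (hsep : ∀ x ∈ Z, IsSepClosed (X.residueField x)) :
    ∀ (G : EtCoh.Ab X), (∀ (Ω : Type u) [Field Ω] [IsSepClosed Ω] (ξ : Spec (CommRingCat.of Ω) ⟶ X),
      ξ.base (default : Spec (CommRingCat.of Ω)) ∉ Z → IsZero ((EtCoh.stalk ξ).obj G)) →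
    ∀ a : EtCoh.H X G 1, a = 0 := by
  classical
  induction Z using Finset.induction with
  | empty =>
    intro G hG a
    have h0 : IsZero G := (isZero_iff_stalks G).2 fun Ω _ _ ξ => hG Ω ξ (Finset.notMem_empty _)
    rw [← Ext.comp_mk₀_id a, h0.eq_of_src (𝟙 G) 0, Ext.mk₀_zero, Ext.comp_zero]
  | @insert x Z hx ih =>
    intro G hG a
    let i := X.fromSpecResidueField x
    haveI : IsClosedImmersion i := IsClosedImmersion.of_isPreimmersion _ (by
      rw [Scheme.range_fromSpecResidueField]; exact hZ x (Finset.mem_insert_self _ _))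
    let U : X.Opens := ⟨{x}ᶜ, (hZ x (Finset.mem_insert_self _ _)).isOpen_compl⟩
    haveI := jCont U.ι
    haveI := hsep x (Finset.mem_insert_self _ _)
    have hU : Set.range U.ι.base = (Set.range i.base)ᶜ := by
      rw [Scheme.Opens.range_ι, Scheme.range_fromSpecResidueField]; rfl
    obtain ⟨w, hS⟩ := recollement_shortExact i U.ι hU G
    haveI := hS.mono_f
    haveI := subsingleton_H1_skyPush_sepClosed x ((EtCoh.pull i).obj G)
    obtain ⟨b, rfl⟩ := Ext.covariant_sequence_exact₂ _ hS a (Subsingleton.elim (α := EtCoh.H X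
      ((EtCoh.push i).obj ((EtCoh.pull i).obj G)) 1) _ _)
    rw [ih (fun y hy => hZ y (Finset.mem_insert_of_mem hy)) (fun y hy => hsep y (Finset.mem_insert_of_mem hy)) _
      (fun Ω _ _ ξ hξ => ?_) b, Ext.zero_comp]
    by_cases hξx : ξ.base (default : Spec (CommRingCat.of Ω)) = x
    · exact isZero_stalk_extZero U.ι ξ (by rw [Scheme.Opens.range_ι]; exact fun h => h hξx) _
    · exact IsZero.of_mono ((EtCoh.stalk ξ).map ((EtShriek.extZeroAdj U.ι).counit.app G)) (hG Ω ξ (by
        simp only [Finset.mem_insert, not_or]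
        exact ⟨hξx, hξ⟩))

theorem subsingleton_H1_of_closed_support {F : EtCoh.Ab X}
    (hF : ∀ (Ω : Type u) [Field Ω] [IsSepClosed Ω] (ξ : Spec (CommRingCat.of Ω) ⟶ X),
      ¬ IsClosed ({ξ.base (default : Spec (CommRingCat.of Ω))} : Set X) → IsZero ((EtCoh.stalk ξ).obj F))
    (hsep : ∀ x : X, IsClosed ({x} : Set X) → IsSepClosed (X.residueField x))
    (a : EtCoh.H X F 1) : a = 0 := by
  classical
  haveI := isIso_aug_top (X := X)
  have hW : IsQcqsObj (EtCoh.top X) :=
    ⟨inferInstanceAs (CompactSpace X), inferInstanceAs (QuasiSeparatedSpace X)⟩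
  obtain ⟨hc⟩ := nonempty_isColimit_partCocone hF
  let e : colimit (partFunctor F) ≅ F := (colimit.isColimit (partFunctor F)).coconePointUniqueUpToIso hc
  obtain ⟨j, y, hy⟩ := (comm_free hW 1 (partFunctor F)).surj
    (((Ext.mk₀ (aug (EtCoh.top X))).comp a (zero_add 1)).comp (Ext.mk₀ e.inv) (add_zero 1))
  let f : (partFunctor F).obj j ⟶ F := colimit.ι (partFunctor F) j ≫ e.hom
  let b : EtCoh.H X ((partFunctor F).obj j) 1 := (Ext.mk₀ (inv (aug (EtCoh.top X)))).comp y (zero_add 1)
  have hab : b.comp (Ext.mk₀ f) (add_zero 1) = a := by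
    show ((Ext.mk₀ _).comp y _).comp (Ext.mk₀ (_ ≫ _)) _ = a
    rw [← Ext.mk₀_comp_mk₀, ← Ext.comp_assoc_of_third_deg_zero, Ext.comp_assoc_of_third_deg_zero _ y, hy]
    simp only [Ext.comp_assoc_of_third_deg_zero, Ext.mk₀_comp_mk₀, Iso.inv_hom_id, Ext.comp_mk₀_id]
    rw [Ext.mk₀_comp_mk₀_assoc, IsIso.inv_hom_id, Ext.mk₀_id_comp]
  have hb : b = 0 := subsingleton_H1_of_finite_sepClosed (j.image fun p => p.down.1)
    (fun x hx => by obtain ⟨p, -, rfl⟩ := Finset.mem_image.1 hx; exact p.down.2)
    (fun x hx => by obtain ⟨p, -, rfl⟩ := Finset.mem_image.1 hx; exact hsep _ p.down.2) (part F j)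
    (fun Ω _ _ ξ h => isZero_stalk_part F j ξ (by simpa [pts] using h)) b
  rw [← hab, hb, Ext.zero_comp]

/-- injectivity in degree two from vanishing of `H¹` of the cokernel -/
theorem eq_zero_of_HGmPull [∀ x : X, PreservesFiniteLimits (EtCoh.pull (X.fromSpecStalk x))] [Mono (toGenS X)]
    (hC : ∀ c : EtCoh.H X (cokernel (toGenS X)) 1, c = 0) (ξ : EtCoh.H X (EtCoh.Gm X) 2)
    (hξ : ∀ x : X, (∀ y : X, y ⤳ x → y = x) → EtLim.HGmPull (X.fromSpecStalk x) 2 ξ = 0) : ξ = 0 := by
  classical
  let f := fun η : Gen X => (EtCoh.push (X.fromSpecStalk η.1)).obj (EtCoh.Gm (Spec (X.presheaf.stalk η.1)))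
  have h0 : ξ.comp (Ext.mk₀ (toGenS X)) (add_zero 2) = 0 := by
    rw [← Ext.comp_mk₀_id (ξ.comp _ _), show 𝟙 (genS X) = ∑ η, biproduct.π f η ≫ biproduct.ι f η from
      biproduct.hom_ext _ _ fun j => by
        rw [Category.id_comp, Preadditive.sum_comp, Finset.sum_eq_single j]
        · exact ((Category.assoc _ _ _).trans ((congrArg _ (biproduct.ι_π_self f j)).trans (Category.comp_id _))).symm
        · exact fun x _ hx => (Category.assoc _ _ _).trans ((congrArg _ (biproduct.ι_π_ne f hx)).trans comp_zero)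
        · exact fun h => absurd (Finset.mem_univ j) h, Ext.mk₀_sum, Ext.comp_sum]
    refine Finset.sum_eq_zero fun η _ => ?_
    rw [← Ext.mk₀_comp_mk₀, ← Ext.comp_assoc_of_third_deg_zero,
      Ext.comp_assoc_of_third_deg_zero ξ (Ext.mk₀ (toGenS X)), Ext.mk₀_comp_mk₀, biproduct.lift_π]
    have h := hofPush_two_injective (X.fromSpecStalk η.1) _ (isZero_Rpush_one_Gm_stalk η.2)
      ((hξ η.1 fun y hy => eq_of_specializes_generic η.2 hy).trans (map_zero _).symm)
    exact (congrArg (fun t : EtCoh.H X (f η) 2 => t.comp (Ext.mk₀ (biproduct.ι f η)) (add_zero 2)) h).trans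
      (by simp)
  let S := ShortComplex.mk (toGenS X) (cokernel.π _) (cokernel.condition (toGenS X))
  have hS : S.ShortExact := { exact := ShortComplex.exact_of_g_is_cokernel _ (cokernelIsCokernel _) }
  obtain ⟨c, rfl⟩ := Ext.covariant_sequence_exact₁ _ hS ξ h0 (rfl : 1 + 1 = 2)
  rw [hC c, Ext.zero_comp]

theorem eq_zero_of_germs_generic (hdim : topologicalKrullDim X ≤ 1)
    (hemb : ∀ x : X, (∃ y : X, y ≠ x ∧ y ⤳ x) →
      ∃ t ∈ IsLocalRing.maximalIdeal (X.presheaf.stalk x), t ∈ nonZeroDivisors (X.presheaf.stalk x))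
    (U : X.Etale) (a : Γ(U.left, ⊤))
    (ha : ∀ w ∈ genericPoints U.left, U.left.presheaf.germ ⊤ w trivial a = 0) : a = 0 := by
  refine TopCat.Presheaf.section_ext U.left.sheaf ⊤ _ _ fun u _ => ?_
  refine Eq.trans ?_ (map_zero _).symm
  by_cases hu : u ∈ genericPoints U.left
  · exact ha u hu
  obtain ⟨y, hy, hyu⟩ := exists_generic (X := U.left) u
  have hne : y ≠ u := fun h => hu (h ▸ hy)
  let g : U.left ⟶ X := U.hom
  haveI : AlgebraicGeometry.Etale g := U.prop
  obtain ⟨t, htm, htz⟩ := hemb (g.base u) ⟨g.base y, fun h => hne (eq_of_specializes U hyu h), hyu.map g.continuous⟩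
  obtain ⟨A, hA, huA, -⟩ := exists_isAffineOpen_mem_and_subset (U := (⊤ : U.left.Opens)) (x := u) trivial
  letI := TopCat.Presheaf.algebra_section_stalk U.left.presheaf (⟨u, huA⟩ : A)
  haveI := hA.isLocalization_stalk ⟨u, huA⟩
  let O := U.left.presheaf.stalk u
  let t' : O := g.stalkMap u t
  have ht'm : t' ∈ IsLocalRing.maximalIdeal O := by
    haveI : IsLocalHom (g.stalkMap u).hom := g.toLRSHom.prop u
    exact fun h => htm (isUnit_of_map_unit (g.stalkMap u).hom t h)
  have ht' : IsSMulRegular O t' := by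
    algebraize [(g.stalkMap u).hom]
    haveI : Module.Flat (X.presheaf.stalk (g u)) O := Flat.stalkMap g u
    have hr : IsSMulRegular (X.presheaf.stalk (g u)) t := isRegular_iff_mem_nonZeroDivisors.2 htz |>.left
    have h2 : IsSMulRegular O t := hr.of_flat (S := O)
    intro p q hpq
    refine h2 ?_
    simp only [Algebra.smul_def, smul_eq_mul] at hpq ⊢
    exact hpq
  let R := Γ(U.left, A)
  let a' : R := U.left.presheaf.map (homOfLE (le_top : A ≤ ⊤)).op a
  have ha' : algebraMap R O a' = U.left.presheaf.germ ⊤ u trivial a := by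
    show U.left.presheaf.germ A u huA a' = _
    exact TopCat.Presheaf.germ_res_apply _ _ _ _ _
  show U.left.presheaf.germ ⊤ u trivial a = 0
  rw [← ha']
  have hrad : t' ∈ (Submodule.span O ({algebraMap R O a'} : Set O)).annihilator.radical := by
    rw [Ideal.radical_eq_sInf, Submodule.mem_sInf]
    rintro q ⟨hq, hqp⟩
    by_contra htq
    haveI := hqp
    let Q : PrimeSpectrum R := ⟨Ideal.comap (algebraMap R O) q, inferInstance⟩
    have hQle : Q ≤ hA.primeIdealOf ⟨u, huA⟩ := by
      intro r hr
      by_contra hr'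
      exact hqp.ne_top (Ideal.eq_top_of_isUnit_mem q hr
        (IsLocalization.map_units O (⟨r, hr'⟩ : (hA.primeIdealOf ⟨u, huA⟩).asIdeal.primeCompl)))
    let w : U.left := hA.fromSpec Q
    have hwu : w ⤳ u := by
      have h1 := ((PrimeSpectrum.le_iff_specializes _ _).mp hQle).map hA.fromSpec.continuous
      rwa [hA.fromSpec_primeIdealOf] at h1
    have hwA : w ∈ A := by
      have h := Set.mem_range_self (f := hA.fromSpec) Q
      rwa [hA.range_fromSpec] at h
    have hwne : w ≠ u := fun h => by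
      have e : hA.primeIdealOf ⟨u, huA⟩ = Q := hA.fromSpec.isOpenEmbedding.injective
        ((hA.fromSpec_primeIdealOf ⟨u, huA⟩).trans h.symm)
      obtain ⟨⟨r, s⟩, hrs⟩ := IsLocalization.surj (hA.primeIdealOf ⟨u, huA⟩).asIdeal.primeCompl t'
      have hr : algebraMap R O r ∈ IsLocalRing.maximalIdeal O := hrs ▸ Ideal.mul_mem_right _ _ ht'm
      have hrq : algebraMap R O r ∈ q := by
        show r ∈ Q.asIdeal
        rw [← e]
        by_contra hr'
        exact hr (IsLocalization.map_units O (⟨r, hr'⟩ : (hA.primeIdealOf ⟨u, huA⟩).asIdeal.primeCompl))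
      rw [← hrs] at hrq
      exact htq ((hqp.mem_or_mem hrq).resolve_right fun hs => hqp.ne_top
        (Ideal.eq_top_of_isUnit_mem q hs (IsLocalization.map_units O s)))
    have hwgen : w ∈ genericPoints U.left := (mem_genericPoints_iff U w).2 (by
      by_contra hcl
      have h := isClosed_of_notMem_genericPoints hdim hcl
      have e : U.hom.base u = U.hom.base w := Set.mem_singleton_iff.1
        (h.closure_eq ▸ specializes_iff_mem_closure.1 (hwu.map U.hom.continuous))
      exact hwne (eq_of_specializes U hwu e.symm))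
    have hgw := ha w hwgen
    letI := TopCat.Presheaf.algebra_section_stalk U.left.presheaf (⟨w, hwA⟩ : A)
    haveI := hA.isLocalization_stalk ⟨w, hwA⟩
    have hw0 : algebraMap R (U.left.presheaf.stalk w) a' = 0 := by
      show U.left.presheaf.germ A w hwA a' = 0
      exact (TopCat.Presheaf.germ_res_apply _ _ _ _ _).trans hgw
    obtain ⟨⟨r, hr⟩, hr0⟩ := (IsLocalization.map_eq_zero_iff (hA.primeIdealOf ⟨w, hwA⟩).asIdeal.primeCompl
      (U.left.presheaf.stalk w) a').1 hw0
    have hQw : hA.primeIdealOf ⟨w, hwA⟩ = Q :=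
      hA.fromSpec.isOpenEmbedding.injective (hA.fromSpec_primeIdealOf ⟨w, hwA⟩)
    refine hr ?_
    rw [hQw]
    show algebraMap R O r ∈ q
    refine hq ?_
    rw [Submodule.mem_annihilator_span_singleton, smul_eq_mul, ← map_mul]
    exact (congrArg (algebraMap R O) hr0).trans (map_zero _)
  obtain ⟨n, hn⟩ := hrad
  rw [Submodule.mem_annihilator_span_singleton] at hn
  refine (ht'.pow n) ?_
  show t' ^ n • algebraMap R O a' = t' ^ n • (0 : O)
  rw [smul_zero]; exact hn

end Groth.Agent.EtDiv
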