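import Groth.Agent.EtDiv.ClosedTorsion
import Groth.Agent.EtStalk.Basic
import Groth.Agent.MorLib.Birat
import Groth.Prelude.Def_EtLim

/-! `Gm → ⊕ i_η* Gm` over the generic points -/

set_option autoImplicit false
universe u

open CategoryTheory CategoryTheory.Limits AlgebraicGeometry Opposite

namespace Groth.Agent.EtDiv

open Groth.Agent.EtFound Groth.Agent.GmH1Lib Groth.Agent.MorLib.Birat

set_option backward.isDefEq.respectTransparency false
set_option backward.isDefEq.respectTransparency.types false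
set_option linter.style.haveILetI false

/-- the local ring of a reduced point without proper generalisations is a field -/
theorem isField_stalk_of_max {T : Scheme.{u}} (ξ : T) (hmax : ∀ y, y ⤳ ξ → y = ξ)
    [_root_.IsReduced (T.presheaf.stalk ξ)] : IsField (T.presheaf.stalk ξ) := by
  rw [IsLocalRing.isField_iff_maximalIdeal_eq, eq_bot_iff]
  intro a ha
  rw [Ideal.mem_bot]
  refine IsReduced.eq_zero a ?_
  rw [← mem_nilradical, nilradical_eq_sInf, Submodule.mem_sInf]
  intro q hq
  have h1 : T.fromSpecStalk ξ ⟨q, hq⟩ = T.fromSpecStalk ξ (IsLocalRing.closedPoint _) := by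
    rw [Scheme.fromSpecStalk_closedPoint]
    refine hmax _ ?_
    have h := Set.mem_range_self (f := T.fromSpecStalk ξ) ⟨q, hq⟩
    rw [Scheme.range_fromSpecStalk] at h
    exact h
  have h2 : q = IsLocalRing.maximalIdeal _ :=
    congrArg PrimeSpectrum.asIdeal ((T.fromSpecStalk ξ).isEmbedding.injective h1)
  exact h2 ▸ ha

variable {X : Scheme.{u}} [AlgebraicGeometry.IsNoetherian X]

theorem finite_genericPoints (T : Scheme.{u}) [AlgebraicGeometry.IsNoetherian T] : (genericPoints T).Finite :=
  genericPoints.finite TopologicalSpace.NoetherianSpace.finite_irreducibleComponents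

omit [AlgebraicGeometry.IsNoetherian X] in
/-- points over generic points of an étale scheme are exactly the generic points -/
theorem mem_genericPoints_iff (U : X.Etale) (u : U.left) :
    u ∈ genericPoints U.left ↔ U.hom.base u ∈ genericPoints X := by
  haveI : AlgebraicGeometry.Etale U.hom := U.prop
  constructor
  · intro hu
    obtain ⟨y, hy, hyu⟩ := exists_generic (X := X) (U.hom.base u)
    obtain ⟨u', hu', e⟩ := Flat.generalizingMap U.hom hyu
    rw [← e, eq_of_specializes_generic hu hu'] at hy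
    exact hy
  · intro hx
    obtain ⟨y, hy, hyu⟩ := exists_generic (X := U.left) u
    have e := eq_of_specializes_generic hx (hyu.map U.hom.continuous)
    rwa [← eq_of_specializes U hyu e]

variable (X) in
/-- the generic points as a finite type -/
abbrev Gen : Type u := ↥(genericPoints X)

noncomputable instance : Fintype (Gen X) := (finite_genericPoints X).fintype

variable (X) in
/-- units of the generic fibres -/
noncomputable abbrev genGm : EtCoh.Ab X :=
  ⨁ fun η : Gen X => (EtCoh.push (X.fromSpecResidueField η.1)).obj (EtCoh.Gm (Spec (X.residueField η.1)))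

variable (X) in
/-- restriction to the generic points -/
noncomputable abbrev toGenGm : EtCoh.Gm X ⟶ genGm X :=
  biproduct.lift fun η => EtLim.GmPush (X.fromSpecResidueField η.1)

omit [AlgebraicGeometry.IsNoetherian X] in
theorem gv_GmPush {Z : Scheme.{u}} (f : Z ⟶ X) (U : X.Etale) (s : (EtCoh.Gm X).obj.obj (op U)) :
    ((gv (X := Z) (W := (EtCoh.bc f).obj U) ((EtLim.GmPush f).hom.app (op U) s)) : Γ(((EtCoh.bc f).obj U).left, ⊤)) =
      (pullback.fst U.hom f).appTop (gv s : Γ(U.left, ⊤)) := rfl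

theorem isReduced_left [IsReduced X] (U : X.Etale) : IsReduced U.left := by
  let g : U.left ⟶ X := U.hom
  haveI : AlgebraicGeometry.Etale g := U.prop
  haveI : IsLocallyNoetherian U.left := LocallyOfFiniteType.isLocallyNoetherian g
  haveI : ∀ x : U.left, _root_.IsReduced (U.left.presheaf.stalk x) := fun x =>
    (EtStalk.reduced_stalk_iff g x).2 inferInstance
  exact isReduced_of_isReduced_stalk U.left

variable [IsReduced X]

theorem mono_toGenGm : Mono (toGenGm X) := by
  haveI : ∀ U, Mono ((toGenGm X).hom.app U) := fun U => (AddCommGrpCat.mono_iff_injective _).2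
    ((injective_iff_map_eq_zero _).2 fun s hs => by
      haveI := isReduced_left (X := X) U.unop
      refine gv_ext ?_
      rw [← sub_eq_zero, ← basicOpen_eq_bot_iff]
      refine TopologicalSpace.Opens.ext (Set.eq_empty_iff_forall_notMem.2 fun w hw => ?_)
      obtain ⟨u, hu, huw⟩ := exists_generic (X := U.unop.left) w
      have hu' := huw.mem_open (U.unop.left.basicOpen _).isOpen hw
      let η : Gen X := ⟨_, (mem_genericPoints_iff U.unop u).1 hu⟩
      let i := X.fromSpecResidueField η.1
      obtain ⟨p, hp, -⟩ := Scheme.Pullback.exists_preimage_pullback (f := U.unop.hom) (g := i) u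
        (default : Spec (X.residueField η.1)) (Scheme.fromSpecResidueField_apply _ _).symm
      have h0 : (EtLim.GmPush i).hom.app U s = 0 := by
        have h1 : ((toGenGm X) ≫ biproduct.π (fun η : Gen X => (EtCoh.push (X.fromSpecResidueField η.1)).obj (EtCoh.Gm (Spec (X.residueField η.1)))) η).hom.app U s = 0 :=
          (congrArg ((biproduct.π (fun η : Gen X => (EtCoh.push (X.fromSpecResidueField η.1)).obj (EtCoh.Gm (Spec (X.residueField η.1)))) η).hom.app U) hs).trans (map_zero _)
        rwa [biproduct.lift_π] at h1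
      have h2 : (pullback.fst U.unop.hom i).appTop ((gv s : Γ(U.unop.left, ⊤)) - (gv (0 : (EtCoh.Gm X).obj.obj U) : Γ(U.unop.left, ⊤))) = 0 := by
        rw [map_sub, ← gv_GmPush, ← gv_GmPush, h0, map_zero, sub_self]
      have h3 : p ∈ (pullback.fst U.unop.hom i) ⁻¹ᵁ U.unop.left.basicOpen
          ((gv s : Γ(U.unop.left, ⊤)) - (gv (0 : (EtCoh.Gm X).obj.obj U) : Γ(U.unop.left, ⊤))) := (congrArg (· ∈ U.unop.left.basicOpen
          ((gv s : Γ(U.unop.left, ⊤)) - (gv (0 : (EtCoh.Gm X).obj.obj U) : Γ(U.unop.left, ⊤)))) hp).mpr hu'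
      have h4 := (Scheme.preimage_basicOpen_top (pullback.fst U.unop.hom i) _).le h3
      rw [h2, Scheme.basicOpen_zero] at h4
      exact h4)
  haveI := NatTrans.mono_of_mono_app (toGenGm X).hom
  exact (sheafToPresheaf _ _).mono_of_mono_map ‹_›

omit [AlgebraicGeometry.IsNoetherian X] [IsReduced X] in
theorem appTop_unit_lift {P V : Scheme.{u}} [Subsingleton P] (f : P ⟶ V) [IsPreimmersion f] (p : P)
    [_root_.IsReduced (V.presheaf.stalk (f.base p))] (hmax : ∀ y, y ⤳ f.base p → y = f.base p) (a : Γ(P, ⊤)ˣ) :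
    ∃ (O : V.Opens) (_ : f.base p ∈ O) (b : Γ(V, O)ˣ) (hle : ⊤ ≤ f ⁻¹ᵁ O),
      f.appLE O ⊤ hle (b : Γ(V, O)) = a := by
  obtain ⟨t, ht⟩ := f.stalkMap_surjective p (P.presheaf.germ ⊤ p trivial (a : Γ(P, ⊤)))
  have ht0 : IsUnit t := by
    letI := (isField_stalk_of_max (f.base p) hmax).toField
    refine isUnit_iff_ne_zero.2 fun h => ?_
    rw [h, map_zero] at ht
    exact (a.isUnit.map (P.presheaf.germ ⊤ p trivial).hom).ne_zero ht.symm
  obtain ⟨O₁, hp₁, b₁, hb₁⟩ := V.presheaf.exists_germ_eq t
  subst hb₁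
  let O := V.basicOpen b₁
  have hp : f.base p ∈ O := (V.mem_basicOpen b₁ (f.base p) hp₁).2 ht0
  have hle : ⊤ ≤ f ⁻¹ᵁ O := fun q _ => by
    rw [Subsingleton.elim q p]; exact hp
  refine ⟨O, hp, (V.toRingedSpace.isUnit_res_basicOpen b₁).unit, hle, ?_⟩
  refine TopCat.Presheaf.section_ext P.sheaf ⊤ _ _ fun q hq => ?_
  obtain rfl := Subsingleton.elim q p
  show P.presheaf.germ ⊤ q hq (f.appLE O ⊤ hle _) = P.presheaf.germ ⊤ q hq (a : Γ(P, ⊤))
  refine Eq.trans ?_ ht
  rw [Scheme.Hom.appLE]
  rw [CommRingCat.comp_apply, TopCat.Presheaf.germ_res_apply]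
  refine (Scheme.Hom.germ_stalkMap_apply f O q hp _).symm.trans (congrArg (f.stalkMap q) ?_)
  exact TopCat.Presheaf.germ_res_apply _ _ _ _ _

omit [AlgebraicGeometry.IsNoetherian X] [IsReduced X] in
theorem appTop_square {P P' V : Scheme.{u}} {O : V.Opens} (f : P ⟶ V) (a : P' ⟶ O.toScheme) (m : P' ⟶ P)
    (hsq : a ≫ O.ι = m ≫ f) (hle : ⊤ ≤ f ⁻¹ᵁ O) (b : Γ(V, O)) :
    a.appTop (O.topIso.inv b) = m.appTop (f.appLE O ⊤ hle b) := by
  have h : (⊤ : O.toScheme.Opens) ≤ O.ι ⁻¹ᵁ O := fun x _ => x.2
  have e : O.topIso.inv = O.ι.appLE O ⊤ h := by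
    simp [Scheme.Hom.appLE, Scheme.Opens.topIso_inv, ← Functor.map_comp]
    exact congrArg V.presheaf.map (Subsingleton.elim _ _)
  rw [e, ← CommRingCat.comp_apply, ← CommRingCat.comp_apply]
  refine ConcreteCategory.congr_hom ?_ _
  simp only [Scheme.Hom.appTop, Scheme.Hom.app_eq_appLE]
  rw [Scheme.Hom.appLE_comp_appLE, Scheme.Hom.appLE_comp_appLE]
  congr 1

theorem stalk_surjective_toGenGm {Ω : Type u} [Field Ω] [IsSepClosed Ω] (ξ : Spec (CommRingCat.of Ω) ⟶ X)
    (hξ : ξ.base (default : Spec (CommRingCat.of Ω)) ∈ genericPoints X) :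
    Function.Surjective ((EtCoh.stalk ξ).map (toGenGm X)) := by
  intro y
  obtain ⟨U₀, u₀, s₀, rfl⟩ := (Scheme.pointSmallEtale ξ).toPresheafFiber_jointly_surjective y
  let η : Gen X := ⟨_, hξ⟩
  let i := X.fromSpecResidueField η.1
  obtain ⟨O, hηO, hO⟩ := exists_separating (X := X) TopologicalSpace.NoetherianSpace.finite_irreducibleComponents hξ
  let p₀ : U₀.left := (u₀.left : Spec (CommRingCat.of Ω) ⟶ U₀.left).base (default : Spec (CommRingCat.of Ω))
  have hp₀ : U₀.hom.base p₀ = η.1 := base_of_point u₀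
  obtain ⟨A, hA, hpA, hAO⟩ := exists_isAffineOpen_mem_and_subset (U := U₀.hom ⁻¹ᵁ O) (x := p₀)
    ((congrArg (· ∈ O) hp₀).mpr hηO)
  haveI : AlgebraicGeometry.Etale U₀.hom := U₀.prop
  haveI : IsLocallyNoetherian U₀.left := by
    let g : U₀.left ⟶ X := U₀.hom
    haveI : AlgebraicGeometry.Etale g := U₀.prop
    exact LocallyOfFiniteType.isLocallyNoetherian g
  haveI : CompactSpace A.toScheme := isCompact_iff_compactSpace.1 hA.isCompact
  haveI : IsLocallyNoetherian A.toScheme := LocallyOfFiniteType.isLocallyNoetherian A.ι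
  haveI : AlgebraicGeometry.IsNoetherian A.toScheme := ⟨⟩
  let U₁ := restrictEtale U₀ A
  let p₁ : U₁.left := (⟨p₀, hpA⟩ : A.toScheme)
  have hp₁ : U₁.hom.base p₁ = η.1 := hp₀
  obtain ⟨B, hpB, hB⟩ := exists_separating (X := A.toScheme) TopologicalSpace.NoetherianSpace.finite_irreducibleComponents
    ((mem_genericPoints_iff U₁ p₁).2 (hp₁ ▸ hξ))
  let U := restrictEtale U₁ B
  let g : U ⟶ U₀ := restrictEtaleHom U₁ B ≫ restrictEtaleHom U₀ A
  let p : U.left := (⟨p₁, hpB⟩ : B.toScheme)
  have hp : U.hom.base p = η.1 := hp₁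
  -- away from `η` the fibres are empty
  have hz : ∀ z : U.left, η.1 ⤳ U.hom.base z := fun z => hO _ (hAO (z.1 : A.toScheme).2)
  -- the fibre over `η` is one point
  have hone : ∀ z : U.left, U.hom.base z = η.1 → z = p := fun z hz' =>
    Subtype.ext (eq_of_specializes U₁ (hB z.1 z.2) (hp₁.trans hz'.symm)).symm
  let P := ((EtCoh.bc i).obj U).left
  let f : P ⟶ U.left := pullback.fst U.hom i
  haveI : IsPreimmersion f := MorphismProperty.pullback_fst U.hom i (inferInstanceAs (IsPreimmersion (X.fromSpecResidueField η.1)))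
  have hf : ∀ q, f.base q = p := fun q => hone _ (by
    refine ((Scheme.Hom.comp_apply _ _ q).symm.trans
      ((congrArg (fun a : _ ⟶ X => a.base q) pullback.condition).trans (Scheme.Hom.comp_apply _ _ q))).trans ?_
    exact Scheme.fromSpecResidueField_apply _ _)
  haveI : Subsingleton P := ⟨fun a b => f.isEmbedding.injective ((hf a).trans (hf b).symm)⟩
  obtain ⟨q, -, -⟩ := Scheme.Pullback.exists_preimage_pullback (f := U.hom) (g := i) p
    (default : Spec (X.residueField η.1)) (hp.trans (Scheme.fromSpecResidueField_apply _ _).symm)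
  haveI := isReduced_left (X := X) U
  have hmax : ∀ y, y ⤳ f.base q → y = f.base q := fun y hy =>
    eq_of_specializes_generic ((mem_genericPoints_iff U (f.base q)).2 (by rw [hf q, hp]; exact hξ)) hy
  let s := (genGm X).obj.map g.op s₀
  let sη : (EtCoh.Gm (Spec (X.residueField η.1))).obj.obj (op ((EtCoh.bc i).obj U)) :=
    (biproduct.π (fun η : Gen X => (EtCoh.push (X.fromSpecResidueField η.1)).obj
      (EtCoh.Gm (Spec (X.residueField η.1)))) η).hom.app (op U) s
  obtain ⟨O', hpO', b, hle, hb⟩ := appTop_unit_lift f q hmax (gv sη)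
  let V := restrictEtale U O'
  let r : V ⟶ U := restrictEtaleHom U O'
  let b' : (EtCoh.Gm X).obj.obj (op V) := gmk (W := V) (Units.map O'.topIso.inv.hom.toMonoidHom b)
  have key : ∀ η' : Gen X,
      (EtLim.GmPush (X.fromSpecResidueField η'.1)).hom.app (op V) b' =
        ((EtCoh.push (X.fromSpecResidueField η'.1)).obj (EtCoh.Gm (Spec (X.residueField η'.1)))).obj.map r.op
          ((biproduct.π (fun η : Gen X => (EtCoh.push (X.fromSpecResidueField η.1)).obj
            (EtCoh.Gm (Spec (X.residueField η.1)))) η').hom.app (op U) s) := by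
    intro η'
    by_cases hη : η' = η
    · subst hη
      refine gv_ext (X := Spec (X.residueField η.1)) (W := (EtCoh.bc i).obj V) ?_
      rw [gv_GmPush]
      let m := (EtCoh.bc i).map r
      refine Eq.trans ?_ (gv_map (X := Spec (X.residueField η.1)) m sη).symm
      rw [← hb]
      show (pullback.fst V.hom i).appTop (O'.topIso.inv (b : Γ(U.left, O'))) = m.left.appTop (f.appLE O' ⊤ hle _)
      have hsq : pullback.fst V.hom i ≫ r.left = m.left ≫ f := (EtCoh.isPullback_bc_map i r).w.symm
      exact appTop_square f _ m.left hsq hle _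
    · haveI : IsEmpty ((EtCoh.bc (X.fromSpecResidueField η'.1)).obj V).left := ⟨fun t => hη (Subtype.ext (by
        have e : U.hom.base ((pullback.fst V.hom (X.fromSpecResidueField η'.1)).base t).1 = η'.1 := by
          refine ((Scheme.Hom.comp_apply _ _ t).symm.trans
            ((congrArg (fun a : _ ⟶ X => a.base t) pullback.condition).trans (Scheme.Hom.comp_apply _ _ t))).trans ?_
          exact Scheme.fromSpecResidueField_apply _ _
        exact (eq_of_specializes_generic η'.2 (e ▸ hz _)).symm))⟩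
      obtain ⟨hu⟩ := nonempty_unique_of_isEmpty (EtCoh.Gm (Spec (X.residueField η'.1)))
        ((EtCoh.bc (X.fromSpecResidueField η'.1)).obj V)
      exact (hu.eq_default _).trans (hu.eq_default _).symm
  obtain ⟨u₁, hu₁, -⟩ := exists_lift_point (r ≫ g) u₀ (⟨p, (congrArg (· ∈ O') (hf q)).mp hpO'⟩ : O'.toScheme) rfl
  refine ⟨(Scheme.pointSmallEtale ξ).toPresheafFiber V u₁ (EtCoh.Gm X).obj b', ?_⟩
  refine ((Scheme.pointSmallEtale ξ).toPresheafFiber_naturality_apply (toGenGm X).hom V u₁ b').trans ?_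
  have hb' : (toGenGm X).hom.app (op V) b' = (genGm X).obj.map (r ≫ g).op s₀ := by
    obtain ⟨φ, hφ⟩ := exists_free_hom (W := V) (G := genGm X) ((genGm X).obj.map (r ≫ g).op s₀)
    obtain ⟨ψ, hψ⟩ := exists_free_hom (W := V) (G := EtCoh.Gm X) b'
    have : ψ ≫ toGenGm X = φ := biproduct.hom_ext _ _ fun η' => free_ext (by
      rw [freeVal_comp, freeVal_comp, freeVal_comp, hψ, hφ, ← map_map]
      refine Eq.trans ?_ ((key η').trans (NatTrans.naturality_apply (biproduct.π (fun η : Gen X => (EtCoh.push (X.fromSpecResidueField η.1)).obj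
            (EtCoh.Gm (Spec (X.residueField η.1)))) η').hom r.op s).symm)
      exact congrArg (fun m : EtCoh.Gm X ⟶ _ => m.hom.app (op V) b') (biproduct.lift_π _ η'))
    rw [← hφ, ← this, freeVal_comp, hψ]
  rw [hb', ← hu₁]
  exact (Scheme.pointSmallEtale ξ).toPresheafFiber_w_apply _ _ _ _

end Groth.Agent.EtDiv
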