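import Groth.Agent.EtDiv.GenTorsion
import Mathlib.AlgebraicGeometry.Morphisms.Flat

/-! `Gm → ⊕ j_η* Gm` over the local schemes of the generic points, no reducedness -/

set_option autoImplicit false
universe u

open CategoryTheory CategoryTheory.Limits AlgebraicGeometry Opposite

namespace Groth.Agent.EtDiv

open Groth.Agent.EtFound Groth.Agent.GmH1Lib Groth.Agent.MorLib.Birat

set_option backward.isDefEq.respectTransparency false
set_option backward.isDefEq.respectTransparency.types false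
set_option linter.style.haveILetI false

theorem flat_fromSpecStalk' (T : Scheme.{u}) (x : T) : Flat (T.fromSpecStalk x) := by
  obtain ⟨_, ⟨U, hU, rfl⟩, hxU, -⟩ := T.isBasis_affineOpens.exists_subset_of_mem_open (Set.mem_univ x) isOpen_univ
  rw [← hU.fromSpecStalk_eq_fromSpecStalk hxU, IsAffineOpen.fromSpecStalk]
  let := TopCat.Presheaf.algebra_section_stalk T.presheaf (⟨x, hxU⟩ : U)
  have := hU.isLocalization_stalk ⟨x, hxU⟩
  have hf : Module.Flat Γ(T, U) (T.presheaf.stalk x) :=
    IsLocalization.flat _ (hU.primeIdealOf ⟨x, hxU⟩).asIdeal.primeCompl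
  have : Flat (Spec.map (T.presheaf.germ U x hxU)) :=
    Flat.SpecMap_iff.2 (RingHom.flat_algebraMap_iff.2 hf)
  infer_instance

theorem stalkMap_bijective_of_flat {P V : Scheme.{u}} (f : P ⟶ V) [Flat f] [IsPreimmersion f] (x : P) :
    Function.Bijective (f.stalkMap x) := by
  refine ⟨?_, f.stalkMap_surjective x⟩
  let := (f.stalkMap x).hom.toAlgebra
  have : Module.Flat (V.presheaf.stalk (f x)) (P.presheaf.stalk x) := Flat.stalkMap f x
  have : IsLocalHom (algebraMap (V.presheaf.stalk (f x)) (P.presheaf.stalk x)) :=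
    inferInstanceAs (IsLocalHom (f.stalkMap x).hom)
  have : Module.FaithfullyFlat (V.presheaf.stalk (f x)) (P.presheaf.stalk x) :=
    Module.FaithfullyFlat.of_flat_of_isLocalHom
  exact FaithfulSMul.algebraMap_injective (V.presheaf.stalk (f x)) (P.presheaf.stalk x)

theorem appTop_unit_lift_flat {P V : Scheme.{u}} [Subsingleton P] (f : P ⟶ V) [IsPreimmersion f] (p : P)
    (a : Γ(P, ⊤)ˣ) :
    ∃ (O : V.Opens) (_ : f.base p ∈ O) (b : Γ(V, O)ˣ) (hle : ⊤ ≤ f ⁻¹ᵁ O),
      f.appLE O ⊤ hle (b : Γ(V, O)) = a := by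
  obtain ⟨t, ht⟩ := f.stalkMap_surjective p (P.presheaf.germ ⊤ p trivial (a : Γ(P, ⊤)))
  have ht0 : IsUnit t := by
    haveI : IsLocalHom (f.stalkMap p).hom := f.toLRSHom.prop p
    refine isUnit_of_map_unit (f.stalkMap p).hom t ?_
    show IsUnit (f.stalkMap p t)
    rw [ht]
    exact a.isUnit.map (P.presheaf.germ ⊤ p trivial).hom
  obtain ⟨O₁, hp₁, b₁, hb₁⟩ := V.presheaf.exists_germ_eq t
  subst hb₁
  let O := V.basicOpen b₁
  have hp : f.base p ∈ O := (V.mem_basicOpen b₁ (f.base p) hp₁).2 ht0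
  have hle : ⊤ ≤ f ⁻¹ᵁ O := fun q _ => by
    rw [Subsingleton.elim q p]; exact hp
  refine ⟨O, hp, (V.toRingedSpace.isUnit_res_basicOpen b₁).unit, hle, ?_⟩
  refine TopCat.Presheaf.section_ext P.sheaf ⊤ _ _ fun q hq => ?_
  obtain rfl := Subsingleton.elim q p
  show P.presheaf.germ ⊤ q hq (f.appLE O ⊤ hle _) = P.presheaf.germ ⊤ q hq (a : Γ(P, ⊤))
  refine Eq.trans ?_ ht
  rw [Scheme.Hom.appLE]
  rw [CommRingCat.comp_apply, TopCat.Presheaf.germ_res_apply]
  refine (Scheme.Hom.germ_stalkMap_apply f O q hp _).symm.trans (congrArg (f.stalkMap q) ?_)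
  exact TopCat.Presheaf.germ_res_apply _ _ _ _ _

variable (X : Scheme.{u}) [AlgebraicGeometry.IsNoetherian X]

/-- units of the local schemes at the generic points -/
noncomputable abbrev genS : EtCoh.Ab X :=
  ⨁ fun η : Gen X => (EtCoh.push (X.fromSpecStalk η.1)).obj (EtCoh.Gm (Spec (X.presheaf.stalk η.1)))

/-- restriction to the local schemes at the generic points -/
noncomputable abbrev toGenS : EtCoh.Gm X ⟶ genS X :=
  biproduct.lift fun η => EtLim.GmPush (X.fromSpecStalk η.1)

variable {X}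

omit [AlgebraicGeometry.IsNoetherian X] in
theorem fromSpecStalk_apply_eq {η : X} (hη : η ∈ genericPoints X) (z : Spec (X.presheaf.stalk η)) :
    (X.fromSpecStalk η).base z = η := by
  have h := Set.mem_range_self (f := X.fromSpecStalk η) z
  rw [Scheme.range_fromSpecStalk] at h
  exact eq_of_specializes_generic hη h

/-- sections killed by all generic local schemes have equal germs at generic points -/
theorem germ_eq_of_toGenS {U : X.Etale} (s : (EtCoh.Gm X).obj.obj (op U))
    (hs : (toGenS X).hom.app (op U) s = 0) {u : U.left} (hu : u ∈ genericPoints U.left) :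
    U.left.presheaf.germ ⊤ u trivial (gv s : Γ(U.left, ⊤)) =
      U.left.presheaf.germ ⊤ u trivial (gv (0 : (EtCoh.Gm X).obj.obj (op U)) : Γ(U.left, ⊤)) := by
  let η : Gen X := ⟨_, (mem_genericPoints_iff U u).1 hu⟩
  let i := X.fromSpecStalk η.1
  let f : ((EtCoh.bc i).obj U).left ⟶ U.left := pullback.fst U.hom i
  haveI : Flat i := flat_fromSpecStalk' X η.1
  haveI : Flat f := MorphismProperty.pullback_fst U.hom i ‹_›
  haveI : IsPreimmersion f := MorphismProperty.pullback_fst U.hom i (inferInstanceAs (IsPreimmersion (X.fromSpecStalk η.1)))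
  obtain ⟨p, hp, -⟩ := Scheme.Pullback.exists_preimage_pullback (f := U.hom) (g := i) u
    (IsLocalRing.closedPoint (X.presheaf.stalk η.1)) (fromSpecStalk_apply_eq η.2 _).symm
  have h0 : (EtLim.GmPush i).hom.app (op U) s = 0 := by
    have h1 : ((toGenS X) ≫ biproduct.π (fun η : Gen X => (EtCoh.push (X.fromSpecStalk η.1)).obj
        (EtCoh.Gm (Spec (X.presheaf.stalk η.1)))) η).hom.app (op U) s = 0 :=
      (congrArg ((biproduct.π (fun η : Gen X => (EtCoh.push (X.fromSpecStalk η.1)).obj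
        (EtCoh.Gm (Spec (X.presheaf.stalk η.1)))) η).hom.app (op U)) hs).trans (map_zero _)
    rwa [biproduct.lift_π] at h1
  have e : f.appTop (gv s : Γ(U.left, ⊤)) = f.appTop (gv (0 : (EtCoh.Gm X).obj.obj (op U)) : Γ(U.left, ⊤)) := by
    refine (gv_GmPush i U s).symm.trans (Eq.trans ?_ (gv_GmPush i U 0))
    rw [h0, map_zero]
  have H : ∀ w : U.left, f.base p = w → U.left.presheaf.germ ⊤ w trivial (gv s : Γ(U.left, ⊤)) =
      U.left.presheaf.germ ⊤ w trivial (gv (0 : (EtCoh.Gm X).obj.obj (op U)) : Γ(U.left, ⊤)) := by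
    rintro w rfl
    refine (stalkMap_bijective_of_flat f p).1 ?_
    exact (Scheme.Hom.germ_stalkMap_apply f ⊤ p trivial _).trans
      ((congrArg (((EtCoh.bc i).obj U).left.presheaf.germ (f ⁻¹ᵁ ⊤) p trivial) e).trans
      (Scheme.Hom.germ_stalkMap_apply f ⊤ p trivial _).symm)
  exact H u hp

/-- injectivity from detection of vanishing at generic points -/
theorem mono_toGenS (hdet : ∀ (U : X.Etale) (a : Γ(U.left, ⊤)),
      (∀ u ∈ genericPoints U.left, U.left.presheaf.germ ⊤ u trivial a = 0) → a = 0) : Mono (toGenS X) := by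
  haveI : ∀ U, Mono ((toGenS X).hom.app U) := fun U => (AddCommGrpCat.mono_iff_injective _).2
    ((injective_iff_map_eq_zero _).2 fun s hs => by
      refine gv_ext ?_
      rw [← sub_eq_zero]
      exact hdet U.unop _ fun u hu => by rw [map_sub, germ_eq_of_toGenS s hs hu, sub_self])
  haveI := NatTrans.mono_of_mono_app (toGenS X).hom
  exact (sheafToPresheaf _ _).mono_of_mono_map ‹_›

theorem stalk_surjective_toGenS {Ω : Type u} [Field Ω] [IsSepClosed Ω] (ξ : Spec (CommRingCat.of Ω) ⟶ X)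
    (hξ : ξ.base (default : Spec (CommRingCat.of Ω)) ∈ genericPoints X) :
    Function.Surjective ((EtCoh.stalk ξ).map (toGenS X)) := by
  intro y
  obtain ⟨U₀, u₀, s₀, rfl⟩ := (Scheme.pointSmallEtale ξ).toPresheafFiber_jointly_surjective y
  let η : Gen X := ⟨_, hξ⟩
  let i := X.fromSpecStalk η.1
  obtain ⟨O, hηO, hO⟩ := exists_separating (X := X) TopologicalSpace.NoetherianSpace.finite_irreducibleComponents hξ
  let p₀ : U₀.left := (u₀.left : Spec (CommRingCat.of Ω) ⟶ U₀.left).base (default : Spec (CommRingCat.of Ω))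
  have hp₀ : U₀.hom.base p₀ = η.1 := base_of_point u₀
  obtain ⟨A, hA, hpA, hAO⟩ := exists_isAffineOpen_mem_and_subset (U := U₀.hom ⁻¹ᵁ O) (x := p₀)
    ((congrArg (· ∈ O) hp₀).mpr hηO)
  haveI : IsLocallyNoetherian U₀.left := by
    let g : U₀.left ⟶ X := U₀.hom
    haveI : AlgebraicGeometry.Etale g := U₀.prop
    exact LocallyOfFiniteType.isLocallyNoetherian g
  haveI : CompactSpace A.toScheme := isCompact_iff_compactSpace.1 hA.isCompact
  haveI : IsLocallyNoetherian A.toScheme := LocallyOfFiniteType.isLocallyNoetherian A.ι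
  haveI : AlgebraicGeometry.IsNoetherian A.toScheme := ⟨⟩
  let U₁ := restrictEtale U₀ A
  let p₁ : U₁.left := (⟨p₀, hpA⟩ : A.toScheme)
  have hp₁ : U₁.hom.base p₁ = η.1 := hp₀
  obtain ⟨B, hpB, hB⟩ := exists_separating (X := A.toScheme) TopologicalSpace.NoetherianSpace.finite_irreducibleComponents
    ((mem_genericPoints_iff U₁ p₁).2 (hp₁ ▸ hξ))
  let U := restrictEtale U₁ B
  let g : U ⟶ U₀ := restrictEtaleHom U₁ B ≫ restrictEtaleHom U₀ A
  let p : U.left := (⟨p₁, hpB⟩ : B.toScheme)
  have hp : U.hom.base p = η.1 := hp₁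
  have hz : ∀ z : U.left, η.1 ⤳ U.hom.base z := fun z => hO _ (hAO (z.1 : A.toScheme).2)
  have hone : ∀ z : U.left, U.hom.base z = η.1 → z = p := fun z hz' =>
    Subtype.ext (eq_of_specializes U₁ (hB z.1 z.2) (hp₁.trans hz'.symm)).symm
  let P := ((EtCoh.bc i).obj U).left
  let f : P ⟶ U.left := pullback.fst U.hom i
  haveI : IsPreimmersion f := MorphismProperty.pullback_fst U.hom i (inferInstanceAs (IsPreimmersion (X.fromSpecStalk η.1)))
  have hf : ∀ q, f.base q = p := fun q => hone _ (by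
    refine ((Scheme.Hom.comp_apply _ _ q).symm.trans
      ((congrArg (fun a : _ ⟶ X => a.base q) pullback.condition).trans (Scheme.Hom.comp_apply _ _ q))).trans ?_
    exact fromSpecStalk_apply_eq η.2 _)
  haveI : Subsingleton P := ⟨fun a b => f.isEmbedding.injective ((hf a).trans (hf b).symm)⟩
  obtain ⟨q, -, -⟩ := Scheme.Pullback.exists_preimage_pullback (f := U.hom) (g := i) p
    (IsLocalRing.closedPoint (X.presheaf.stalk η.1)) (hp.trans (fromSpecStalk_apply_eq η.2 _).symm)
  let s := (genS X).obj.map g.op s₀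
  let sη : (EtCoh.Gm (Spec (X.presheaf.stalk η.1))).obj.obj (op ((EtCoh.bc i).obj U)) :=
    (biproduct.π (fun η : Gen X => (EtCoh.push (X.fromSpecStalk η.1)).obj
      (EtCoh.Gm (Spec (X.presheaf.stalk η.1)))) η).hom.app (op U) s
  obtain ⟨O', hpO', b, hle, hb⟩ := appTop_unit_lift_flat f q (gv sη)
  let V := restrictEtale U O'
  let r : V ⟶ U := restrictEtaleHom U O'
  let b' : (EtCoh.Gm X).obj.obj (op V) := gmk (W := V) (Units.map O'.topIso.inv.hom.toMonoidHom b)
  have key : ∀ η' : Gen X,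
      (EtLim.GmPush (X.fromSpecStalk η'.1)).hom.app (op V) b' =
        ((EtCoh.push (X.fromSpecStalk η'.1)).obj (EtCoh.Gm (Spec (X.presheaf.stalk η'.1)))).obj.map r.op
          ((biproduct.π (fun η : Gen X => (EtCoh.push (X.fromSpecStalk η.1)).obj
            (EtCoh.Gm (Spec (X.presheaf.stalk η.1)))) η').hom.app (op U) s) := by
    intro η'
    by_cases hη : η' = η
    · subst hη
      refine gv_ext (X := Spec (X.presheaf.stalk η.1)) (W := (EtCoh.bc i).obj V) ?_
      rw [gv_GmPush]
      let m := (EtCoh.bc i).map r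
      refine Eq.trans ?_ (gv_map (X := Spec (X.presheaf.stalk η.1)) m sη).symm
      rw [← hb]
      show (pullback.fst V.hom i).appTop (O'.topIso.inv (b : Γ(U.left, O'))) = m.left.appTop (f.appLE O' ⊤ hle _)
      have hsq : pullback.fst V.hom i ≫ r.left = m.left ≫ f := (EtCoh.isPullback_bc_map i r).w.symm
      exact appTop_square f _ m.left hsq hle _
    · haveI : IsEmpty ((EtCoh.bc (X.fromSpecStalk η'.1)).obj V).left := ⟨fun t => hη (Subtype.ext (by
        have e : U.hom.base ((pullback.fst V.hom (X.fromSpecStalk η'.1)).base t).1 = η'.1 := by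
          refine ((Scheme.Hom.comp_apply _ _ t).symm.trans
            ((congrArg (fun a : _ ⟶ X => a.base t) pullback.condition).trans (Scheme.Hom.comp_apply _ _ t))).trans ?_
          exact fromSpecStalk_apply_eq η'.2 _
        exact (eq_of_specializes_generic η'.2 (e ▸ hz _)).symm))⟩
      obtain ⟨hu⟩ := nonempty_unique_of_isEmpty (EtCoh.Gm (Spec (X.presheaf.stalk η'.1)))
        ((EtCoh.bc (X.fromSpecStalk η'.1)).obj V)
      exact (hu.eq_default _).trans (hu.eq_default _).symm
  obtain ⟨u₁, hu₁, -⟩ := exists_lift_point (r ≫ g) u₀ (⟨p, (congrArg (· ∈ O') (hf q)).mp hpO'⟩ : O'.toScheme) rfl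
  refine ⟨(Scheme.pointSmallEtale ξ).toPresheafFiber V u₁ (EtCoh.Gm X).obj b', ?_⟩
  refine ((Scheme.pointSmallEtale ξ).toPresheafFiber_naturality_apply (toGenS X).hom V u₁ b').trans ?_
  have hb' : (toGenS X).hom.app (op V) b' = (genS X).obj.map (r ≫ g).op s₀ := by
    obtain ⟨φ, hφ⟩ := exists_free_hom (W := V) (G := genS X) ((genS X).obj.map (r ≫ g).op s₀)
    obtain ⟨ψ, hψ⟩ := exists_free_hom (W := V) (G := EtCoh.Gm X) b'
    have : ψ ≫ toGenS X = φ := biproduct.hom_ext _ _ fun η' => free_ext (by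
      rw [freeVal_comp, freeVal_comp, freeVal_comp, hψ, hφ, ← map_map]
      refine Eq.trans ?_ ((key η').trans (NatTrans.naturality_apply (biproduct.π (fun η : Gen X => (EtCoh.push (X.fromSpecStalk η.1)).obj
            (EtCoh.Gm (Spec (X.presheaf.stalk η.1)))) η').hom r.op s).symm)
      exact congrArg (fun m : EtCoh.Gm X ⟶ _ => m.hom.app (op V) b') (biproduct.lift_π _ η'))
    rw [← hφ, ← this, freeVal_comp, hψ]
  rw [hb', ← hu₁]
  exact (Scheme.pointSmallEtale ξ).toPresheafFiber_w_apply _ _ _ _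

theorem isZero_stalk_cokernel_toGenS {Ω : Type u} [Field Ω] [IsSepClosed Ω] (ξ : Spec (CommRingCat.of Ω) ⟶ X)
    (hξ : ξ.base (default : Spec (CommRingCat.of Ω)) ∈ genericPoints X) :
    IsZero ((EtCoh.stalk ξ).obj (cokernel (toGenS X))) := by
  haveI : Epi ((EtCoh.stalk ξ).map (toGenS X)) :=
    (AddCommGrpCat.epi_iff_surjective _).2 (stalk_surjective_toGenS ξ hξ)
  haveI : Epi ((EtCoh.stalk ξ).map (cokernel.π (toGenS X))) := inferInstance
  refine IsZero.of_epi_eq_zero ((EtCoh.stalk ξ).map (cokernel.π (toGenS X))) ?_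
  rw [← cancel_epi ((EtCoh.stalk ξ).map (toGenS X)), ← Functor.map_comp, cokernel.condition, Functor.map_zero,
    comp_zero]

end Groth.Agent.EtDiv
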