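import Groth.Agent.EtFound.StalkSet
import Groth.Agent.EtFound.NoethCard
import Groth.Agent.EtFound.TorsionCoh
import Mathlib.Topology.NoetherianSpace

/-! supports of sections of etale sheaves -/

set_option autoImplicit false
universe u

open CategoryTheory CategoryTheory.Limits AlgebraicGeometry Opposite TopologicalSpace

namespace Groth.Agent.EtDiv

open Groth.Agent.EtFound

set_option backward.isDefEq.respectTransparency false
set_option backward.isDefEq.respectTransparency.types false
set_option linter.style.haveILetI false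

variable {X : Scheme.{u}}

theorem map_map (F : EtCoh.Ab X) {U V W : X.Etale} (f : U ⟶ V) (g : V ⟶ W) (s : F.obj.obj (op W)) :
    F.obj.map f.op (F.obj.map g.op s) = F.obj.map (f ≫ g).op s := by
  rw [op_comp, Functor.map_comp, ConcreteCategory.comp_apply]

/-- sections vanishing near every point vanish -/
theorem eq_zero_of_locally (F : EtCoh.Ab X) {W : X.Etale} (s : F.obj.obj (op W))
    (h : ∀ w : W.left, ∃ (V : X.Etale) (g : V ⟶ W) (v : V.left), g.left.base v = w ∧ F.obj.map g.op s = 0) :
    s = 0 := by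
  refine Sheaf.isSeparated F W
    { arrows := fun V g => F.obj.map g.op s = 0
      downward_closed := fun {V V'} g hg f => by rw [← map_map, hg, map_zero] }
    ((mem_topology_iff _).2 fun w => ?_) _ _ fun V g hg => ?_
  · obtain ⟨V, g, v, hv, hg⟩ := h w
    exact ⟨V, g, v, hg, hv⟩
  · exact hg.trans (map_zero _).symm

/-- the open set near which a section vanishes -/
def zeroLocus (F : EtCoh.Ab X) {W : X.Etale} (s : F.obj.obj (op W)) : Set W.left :=
  {w | ∃ (V : X.Etale) (g : V ⟶ W) (v : V.left), g.left.base v = w ∧ F.obj.map g.op s = 0}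

theorem isOpen_zeroLocus (F : EtCoh.Ab X) {W : X.Etale} (s : F.obj.obj (op W)) : IsOpen (zeroLocus F s) := by
  refine isOpen_iff_forall_mem_open.2 fun w ⟨V, g, v, hv, hg⟩ => ?_
  haveI := etale_left g
  exact ⟨Set.range g.left.base, by rintro _ ⟨v', rfl⟩; exact ⟨V, g, v', rfl, hg⟩,
    g.left.isOpenMap.isOpen_range, v, hv⟩

/-- outside the zero locus some stalk is nontrivial -/
theorem exists_not_isZero_stalk (F : EtCoh.Ab X) {W : X.Etale} (s : F.obj.obj (op W)) {w : W.left}
    (hw : w ∉ zeroLocus F s) :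
    ∃ (Ω : Type u) (_ : Field Ω) (_ : IsSepClosed Ω) (ξ : Spec (CommRingCat.of Ω) ⟶ X),
      ξ.base (default : Spec (CommRingCat.of Ω)) = W.hom.base w ∧ ¬ IsZero ((EtCoh.stalk ξ).obj F) := by
  obtain ⟨Ω, _, _, ξ, u, hu⟩ := exists_point_through W w
  refine ⟨Ω, inferInstance, inferInstance, ξ, ?_, fun h0 => hw ?_⟩
  · rw [← hu (default : Spec (CommRingCat.of Ω))]
    exact (base_of_point u).symm
  · have hz : (Scheme.pointSmallEtale ξ).toPresheafFiber W u F.obj s =
        (Scheme.pointSmallEtale ξ).toPresheafFiber W u F.obj 0 :=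
      @Subsingleton.elim _ (AddCommGrpCat.subsingleton_of_isZero h0) _ _
    obtain ⟨V, g, v, hv, hg⟩ := ((Scheme.pointSmallEtale ξ).toPresheafFiber_eq_iff' W u s 0).1 hz
    refine ⟨V, g, (v.left : Spec (CommRingCat.of Ω) ⟶ V.left).base (default : Spec (CommRingCat.of Ω)), ?_, hg.trans (map_zero _)⟩
    subst hv
    exact hu (default : Spec (CommRingCat.of Ω))

theorem finite_of_isClosed_singletons {T : Type*} [TopologicalSpace T] [NoetherianSpace T] [QuasiSober T]
    {S : Set T} (hS : IsClosed S) (h : ∀ p ∈ S, IsClosed ({p} : Set T)) : S.Finite := by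
  obtain ⟨t, htf, htc, hti, rfl⟩ := NoetherianSpace.exists_finite_set_isClosed_irreducible hS
  refine htf.sUnion fun Z hZ => ?_
  obtain ⟨g, hg⟩ := QuasiSober.sober (hti Z hZ) (htc Z hZ)
  have hgc : IsClosed ({g} : Set T) := h g ⟨Z, hZ, hg.mem⟩
  rw [← hg.def, hgc.closure_eq]
  exact Set.finite_singleton g

/-- sheaves with no stalks at non-closed points have finitely supported sections -/
theorem finite_compl_zeroLocus [IsLocallyNoetherian X] (F : EtCoh.Ab X)
    (hF : ∀ (Ω : Type u) [Field Ω] [IsSepClosed Ω] (ξ : Spec (CommRingCat.of Ω) ⟶ X),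
      ¬ IsClosed ({ξ.base (default : Spec (CommRingCat.of Ω))} : Set X) → IsZero ((EtCoh.stalk ξ).obj F))
    {W : X.Etale} [CompactSpace W.left] (s : F.obj.obj (op W)) :
    (zeroLocus F s)ᶜ.Finite ∧ ∀ w ∈ (zeroLocus F s)ᶜ, IsClosed ({W.hom.base w} : Set X) := by
  have key : ∀ w ∈ (zeroLocus F s)ᶜ, IsClosed ({W.hom.base w} : Set X) := fun w hw => by
    obtain ⟨Ω, _, _, ξ, hξ, h0⟩ := exists_not_isZero_stalk F s hw
    by_contra hc
    exact h0 (hF Ω ξ (hξ ▸ hc))
  haveI : IsLocallyNoetherian W.left := by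
    let g : W.left ⟶ X := W.hom
    haveI : AlgebraicGeometry.Etale g := W.prop
    exact LocallyOfFiniteType.isLocallyNoetherian g
  haveI : IsNoetherian W.left := ⟨⟩
  refine ⟨finite_of_isClosed_singletons (isOpen_zeroLocus F s).isClosed_compl fun p hp => ?_, key⟩
  refine closure_subset_iff_isClosed.1 fun q hq => ?_
  have hpq : p ⤳ q := specializes_iff_mem_closure.2 hq
  have e : W.hom.base p = W.hom.base q := by
    have := (key p hp).closure_eq ▸ specializes_iff_mem_closure.1 (hpq.map W.hom.continuous)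
    exact (Set.mem_singleton_iff.1 this).symm
  exact Set.mem_singleton_iff.2 (eq_of_specializes W hpq e).symm

end Groth.Agent.EtDiv
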