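import Groth.Agent.EtDiv.Germs
import Groth.Agent.EtFound.PullExt
import Groth.Agent.EtFound.PullStalk

/-! sheaves supported on closed points as colimits of finitely supported ones -/

set_option autoImplicit false
universe u

open CategoryTheory CategoryTheory.Limits AlgebraicGeometry Opposite

namespace Groth.Agent.EtDiv

open Groth.Agent.EtFound

set_option backward.isDefEq.respectTransparency false
set_option backward.isDefEq.respectTransparency.types false
set_option linter.style.haveILetI false

variable {X : Scheme.{u}}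

/-- finite sets of closed points -/
abbrev Stg (X : Scheme.{u}) : Type (u + 1) := Finset (ULift.{u + 1} {x : X // IsClosed ({x} : Set X)})

/-- the underlying set -/
def pts (Z : Stg X) : Set X := (fun p => p.down.1) '' (Z : Set (ULift.{u + 1} {x : X // IsClosed ({x} : Set X)}))

theorem isClosed_pts (Z : Stg X) : IsClosed (pts Z) := by
  rw [pts, ← Set.biUnion_of_singleton ((fun p => p.down.1) '' (Z : Set (ULift.{u + 1} {x : X // IsClosed ({x} : Set X)}))),
    Set.biUnion_image]
  exact Set.Finite.isClosed_biUnion Z.finite_toSet fun p _ => p.down.2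

theorem pts_mono {Z Z' : Stg X} (h : Z ≤ Z') : pts Z ⊆ pts Z' := Set.image_mono fun _ hx => h hx

/-- the open complement -/
def away (Z : Stg X) : X.Opens := ⟨(pts Z)ᶜ, (isClosed_pts Z).isOpen_compl⟩

variable (F : EtCoh.Ab X)

/-- restriction to the complement of a stage -/
noncomputable abbrev res (Z : Stg X) : F ⟶ (EtCoh.push (away Z).ι).obj ((EtCoh.pull (away Z).ι).obj F) :=
  (EtCoh.pullPushAdj (away Z).ι).unit.app F

/-- sections supported in a stage -/
noncomputable abbrev part (Z : Stg X) : EtCoh.Ab X := kernel (res F Z)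

theorem isZero_stalk_part (Z : Stg X) {Ω : Type u} [Field Ω] [IsSepClosed Ω] (ξ : Spec (CommRingCat.of Ω) ⟶ X)
    (h : ξ.base (default : Spec (CommRingCat.of Ω)) ∉ pts Z) : IsZero ((EtCoh.stalk ξ).obj (part F Z)) := by
  let j := (away Z).ι
  have hi : IsIso ((EtCoh.stalk ξ).map (res F Z)) := by
    refine isIso_stalk_of_lift j _ ξ (by rw [Scheme.Opens.range_ι]; exact h) fun k _ _ z => ?_
    haveI := counit_isIso (A := AddCommGrpCat.{u + 1}) j (liftable_of_isOpenImmersion j) ((EtCoh.pull j).obj F)
    have h1 : IsIso ((EtCoh.pull j).map (res F Z)) :=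
      @IsIso.of_isIso_fac_right _ _ _ _ _ _ _ _ ‹_› (IsIso.id _) ((EtCoh.pullPushAdj j).left_triangle_components F)
    exact (NatIso.isIso_map_iff (sheafFiberPullIso (A := AddCommGrpCat.{u + 1}) j z) _).1
      (inferInstanceAs (IsIso ((EtCoh.stalk z).map ((EtCoh.pull j).map (res F Z)))))
  have : Mono ((EtCoh.stalk ξ).map (kernel.ι (res F Z))) := inferInstance
  have h0 : (EtCoh.stalk ξ).map (kernel.ι (res F Z)) = 0 := by
    rw [← cancel_mono ((EtCoh.stalk ξ).map (res F Z)), ← Functor.map_comp, kernel.condition, Functor.map_zero,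
      zero_comp]
  exact IsZero.of_mono_eq_zero _ h0

theorem ι_comp_res {Z Z' : Stg X} (h : Z ≤ Z') : kernel.ι (res F Z) ≫ res F Z' = 0 := by
  let j := (away Z').ι
  have hz : IsZero ((EtCoh.pull j).obj (part F Z)) := (isZero_iff_stalks _).2 fun Ω _ _ z =>
    (isZero_stalk_part F Z (z ≫ j) fun hm => by
      have := pts_mono h hm
      rw [Scheme.Hom.comp_apply] at this
      exact (z.base (default : Spec (CommRingCat.of Ω)) : (away Z').toScheme).2 this).of_iso
      ((stalkPullIso j z).app (part F Z))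
  refine ((EtCoh.pullPushAdj j).homEquiv _ _).symm.injective ?_
  exact hz.eq_of_src _ _

/-- the system of stages -/
noncomputable def partFunctor : Stg X ⥤ EtCoh.Ab X where
  obj Z := part F Z
  map {Z Z'} h := kernel.lift _ (kernel.ι (res F Z)) (ι_comp_res F (leOfHom h))
  map_id Z := by rw [← cancel_mono (kernel.ι (res F Z)), kernel.lift_ι, Category.id_comp]
  map_comp {A B C} f g := by rw [← cancel_mono (kernel.ι (res F C)), Category.assoc, kernel.lift_ι, kernel.lift_ι,
    kernel.lift_ι]

/-- the cocone of stages -/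
noncomputable def partCocone : Cocone (partFunctor F) where
  pt := F
  ι := { app := fun Z => kernel.ι (res F Z)
         naturality := fun Z Z' f => by
           change kernel.lift _ _ _ ≫ kernel.ι (res F Z') = kernel.ι (res F Z) ≫ 𝟙 _
           rw [kernel.lift_ι, Category.comp_id] }

variable {F}

/-- a section is in a stage containing the image of its support -/
theorem res_app_eq_zero {W : X.Etale} (s : F.obj.obj (op W)) {Z : Stg X}
    (h : ∀ w, w ∉ zeroLocus F s → W.hom.base w ∈ pts Z) : (res F Z).hom.app (op W) s = 0 := by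
  let j := (away Z).ι
  let O : W.left.Opens := ⟨zeroLocus F s, isOpen_zeroLocus F s⟩
  let r := restrictEtaleHom W O
  have hs : F.obj.map r.op s = 0 := eq_zero_of_locally F _ fun v => by
    obtain ⟨V, g, v', hv, hg⟩ := v.2
    haveI := etale_left g
    let O' : V.left.Opens := g.left ⁻¹ᵁ O
    obtain ⟨k, hk⟩ : ∃ k : restrictEtale V O' ⟶ restrictEtale W O, k ≫ r = restrictEtaleHom V O' ≫ g := by
      obtain ⟨q, hq⟩ : ∃ q : O'.toScheme ⟶ O.toScheme, q ≫ O.ι = O'.ι ≫ g.left := ⟨g.left ∣_ O, morphismRestrict_ι _ _⟩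
      refine ⟨MorphismProperty.Over.homMk q ?_, MorphismProperty.Over.Hom.ext hq⟩
      show q ≫ O.ι ≫ W.hom = O'.ι ≫ V.hom
      rw [← Category.assoc, hq, Category.assoc, MorphismProperty.Over.w g]
    have hvO : v' ∈ O' := (congrArg (· ∈ O) hv).mpr v.2
    refine ⟨_, k, (⟨v', hvO⟩ : O'.toScheme), ?_, ?_⟩
    · refine Subtype.ext ?_
      have e := congrArg (fun m : restrictEtale V O' ⟶ W => m.left.base (⟨v', hvO⟩ : O'.toScheme)) hk
      exact e.trans hv
    · rw [map_map, hk, ← map_map, hg, map_zero]
  let m := (EtCoh.bc j).map r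
  haveI : IsIso m.left := by
    have hp := EtCoh.isPullback_bc_map j r
    haveI : IsOpenImmersion r.left := inferInstanceAs (IsOpenImmersion O.ι)
    haveI : IsOpenImmersion m.left := MorphismProperty.of_isPullback hp.flip inferInstance
    haveI : Surjective m.left := by
      refine ⟨fun p => ?_⟩
      have hp' : (pullback.fst W.hom j).base p ∈ Set.range r.left.base := by
        refine ⟨(⟨_, ?_⟩ : O.toScheme), rfl⟩
        by_contra hn
        have h2 := h _ hn
        exact ((pullback.snd W.hom j).base p : (away Z).toScheme).2 (Set.mem_of_eq_of_mem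
          (((Scheme.Hom.comp_apply _ _ p).symm.trans
            ((congrArg (fun a : _ ⟶ X => a.base p) pullback.condition.symm).trans (Scheme.Hom.comp_apply _ _ p)))) h2)
      obtain ⟨a, ha⟩ := hp'
      obtain ⟨b, hb, -⟩ := Scheme.exists_preimage_of_isPullback hp p a ha.symm
      exact ⟨b, hb⟩
    haveI : Epi m.left.base := (TopCat.epi_iff_surjective _).2 m.left.surjective
    exact IsOpenImmersion.isIso m.left
  haveI : IsIso m := by
    refine ⟨MorphismProperty.Over.homMk (inv m.left) ?_, MorphismProperty.Over.Hom.ext (IsIso.hom_inv_id m.left),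
      MorphismProperty.Over.Hom.ext (IsIso.inv_hom_id m.left)⟩
    rw [IsIso.inv_comp_eq]
    exact (MorphismProperty.Over.w m).symm
  refine (ConcreteCategory.bijective_of_isIso (((EtCoh.pull j).obj F).obj.map m.op)).1 ?_
  refine Eq.trans ?_ (map_zero _).symm
  refine (NatTrans.naturality_apply (res F Z).hom r.op s).symm.trans ?_
  rw [hs]
  exact map_zero _

variable [IsLocallyNoetherian X]

/-- sheaves with no stalks at non-closed points are the colimit of their stages -/
theorem nonempty_isColimit_partCocone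
    (hF : ∀ (Ω : Type u) [Field Ω] [IsSepClosed Ω] (ξ : Spec (CommRingCat.of Ω) ⟶ X),
      ¬ IsClosed ({ξ.base (default : Spec (CommRingCat.of Ω))} : Set X) → IsZero ((EtCoh.stalk ξ).obj F)) :
    Nonempty (IsColimit (partCocone F)) := by
  classical
  let c := colimit.cocone (partFunctor F)
  let φ : c.pt ⟶ F := colimit.desc _ (partCocone F)
  have hφ : ∀ Z, c.ι.app Z ≫ φ = kernel.ι (res F Z) := fun Z => colimit.ι_desc _ _
  haveI : IsIso φ := (isIso_iff_stalks φ).2 fun Ω _ _ ξ => by
    haveI : (EtCoh.stalk ξ).IsLeftAdjoint := (Scheme.pointSmallEtale ξ).skyscraperSheafAdjunction.isLeftAdjoint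
    have hc := isColimitOfPreserves (EtCoh.stalk ξ ⋙ forget AddCommGrpCat.{u + 1}) (colimit.isColimit (partFunctor F))
    rw [ConcreteCategory.isIso_iff_bijective]
    refine ⟨(injective_iff_map_eq_zero _).2 fun a ha => ?_, fun y => ?_⟩
    · obtain ⟨Z, b, rfl⟩ := Types.jointly_surjective _ hc a
      change (EtCoh.stalk ξ).map φ ((EtCoh.stalk ξ).map (c.ι.app Z) b) = 0 at ha
      replace ha := (ConcreteCategory.congr_hom (((EtCoh.stalk ξ).map_comp _ _).symm.trans (congrArg (EtCoh.stalk ξ).map (hφ Z))) b).symm.trans ha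
      have hb : (b : (EtCoh.stalk ξ).obj (part F Z)) = (0 : (EtCoh.stalk ξ).obj (part F Z)) := (AddCommGrpCat.mono_iff_injective _).1
        (inferInstanceAs (Mono ((EtCoh.stalk ξ).map (kernel.ι (res F Z))))) (ha.trans (map_zero _).symm)
      exact (congrArg ((EtCoh.stalk ξ).map (c.ι.app Z)) hb).trans (map_zero _)
    · obtain ⟨W₀, u₀, s₀, rfl⟩ := (Scheme.pointSmallEtale ξ).toPresheafFiber_jointly_surjective y
      let w₀ : W₀.left := (u₀.left : Spec (CommRingCat.of Ω) ⟶ W₀.left).base (default : Spec (CommRingCat.of Ω))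
      obtain ⟨A, hA, hwA, -⟩ := exists_isAffineOpen_mem_and_subset (U := (⊤ : W₀.left.Opens)) (x := w₀) trivial
      let W := restrictEtale W₀ A
      haveI : CompactSpace W.left := isCompact_iff_compactSpace.1 hA.isCompact
      obtain ⟨u, hu, -⟩ := exists_lift_point (restrictEtaleHom W₀ A) u₀ (⟨w₀, hwA⟩ : A.toScheme) rfl
      let s := F.obj.map (restrictEtaleHom W₀ A).op s₀
      obtain ⟨hfin, hcl⟩ := finite_compl_zeroLocus F hF s
      let Z : Stg X := hfin.toFinset.attach.image fun w => ULift.up ⟨W.hom.base w.1, hcl _ (hfin.mem_toFinset.1 w.2)⟩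
      have hZ : ∀ w, w ∉ zeroLocus F s → W.hom.base w ∈ pts Z := fun w hw =>
        ⟨ULift.up ⟨W.hom.base w, hcl w hw⟩, Finset.mem_image.2 ⟨⟨w, hfin.mem_toFinset.2 hw⟩, Finset.mem_attach _ _, rfl⟩, rfl⟩
      obtain ⟨ψ, hψ⟩ := exists_free_hom (W := W) (G := F) s
      have hψ0 : ψ ≫ res F Z = 0 := free_ext (by
        refine (congrArg ((res F Z).hom.app (op W)) hψ).trans ((res_app_eq_zero s hZ).trans ?_)
        rfl)
      let t : (part F Z).obj.obj (op W) := freeVal (kernel.lift _ ψ hψ0)
      refine ⟨(EtCoh.stalk ξ).map (c.ι.app Z) ((Scheme.pointSmallEtale ξ).toPresheafFiber W u (part F Z).obj t), ?_⟩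
      refine (ConcreteCategory.congr_hom (((EtCoh.stalk ξ).map_comp _ _).symm.trans (congrArg (EtCoh.stalk ξ).map (hφ Z))) _).trans ?_
      refine ((Scheme.pointSmallEtale ξ).toPresheafFiber_naturality_apply (kernel.ι (res F Z)).hom W u t).trans ?_
      have ht : (kernel.ι (res F Z)).hom.app (op W) t = s := by
        refine Eq.trans ?_ hψ
        conv_rhs => rw [← kernel.lift_ι _ ψ hψ0]
        rfl
      rw [ht, ← hu]
      exact (Scheme.pointSmallEtale ξ).toPresheafFiber_w_apply _ _ _ _
  exact ⟨(colimit.isColimit _).ofIsoColimit (Cocone.ext (asIso φ) fun Z => hφ Z)⟩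

end Groth.Agent.EtDiv
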